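import Cfsg.Agent.H104.PU.Gen

/-!
# S5258, step (E3a)
-/

set_option autoImplicit false

namespace Cfsg.Agent.H104.PU

open Cfsg Cfsg.FusionSystem Cfsg.Agent.H756.PU

universe u

theorem le_normalizer_of_com {Ω : Type*} [Group Ω] {A E : Subgroup Ω} (h : Com A E E) :
    A ≤ Subgroup.normalizer (E : Set Ω) := by
  intro x hx
  rw [Subgroup.mem_normalizer_iff]
  intro e
  constructor
  · intro he
    have h1 : x * e * x⁻¹ = (x * e * x⁻¹ * e⁻¹) * e := by group
    rw [h1]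
    exact E.mul_mem (h x hx e he) he
  · intro he
    have h1 : e = (x⁻¹ * (x * e * x⁻¹) * x⁻¹⁻¹ * (x * e * x⁻¹)⁻¹) * (x * e * x⁻¹) := by group
    rw [h1]
    exact E.mul_mem (h x⁻¹ (A.inv_mem hx) _ he) he

section
variable {K : Type u} [Field K] [StarRing K] {p n : ℕ}

theorem one_lt_q (h : HypK K p n) : 1 < p ^ n :=
  Nat.one_lt_pow (by have := h.hn; omega) h.pp.one_lt

/-- at most `q` elements of trace zero -/
theorem card_tr0_le (h : HypK K p n) : Nat.card {c : K // c + star c = 0} ≤ p ^ n := by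
  classical
  have := h.fin
  have := Fintype.ofFinite K
  have hq := one_lt_q h
  set P : Polynomial K := Polynomial.X ^ (p ^ n) + Polynomial.X with hP
  have hnd : P.natDegree = p ^ n := by
    rw [hP, Polynomial.natDegree_add_eq_left_of_natDegree_lt, Polynomial.natDegree_X_pow]
    rw [Polynomial.natDegree_X_pow, Polynomial.natDegree_X]
    exact hq
  have hP0 : P ≠ 0 := by
    intro h0
    rw [h0, Polynomial.natDegree_zero] at hnd
    omega
  have h1 : Nat.card {c : K // c + star c = 0} ≤ P.roots.toFinset.card := by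
    rw [Nat.card_eq_fintype_card, Fintype.card_subtype]
    refine Finset.card_le_card ?_
    intro c hc
    rw [Finset.mem_filter] at hc
    rw [Multiset.mem_toFinset, Polynomial.mem_roots hP0, Polynomial.IsRoot.def, hP,
      Polynomial.eval_add, Polynomial.eval_pow, Polynomial.eval_X, ← h.star_eq, add_comm]
    exact hc.2
  calc _ ≤ P.roots.toFinset.card := h1
    _ ≤ Multiset.card P.roots := Multiset.toFinset_card_le _
    _ ≤ P.natDegree := Polynomial.card_roots' P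
    _ = p ^ n := hnd

/-- `|M : M ∩ Q₁| ≤ q` for `M ≤ QV` -/
theorem relIndex_Q1_le (h : HypK K p n) {M : Subgroup (UG K)} (hM : M ≤ QV K) :
    (Q1 K).relIndex M ≤ p ^ n := by
  have := h.fin
  let f : M →* Multiplicative K :=
    { toFun := fun g => Multiplicative.ofAdd (g : UG K).c
      map_one' := rfl
      map_mul' := fun x y => by
        have hx : (x : UG K).u2 = 0 := hM x.2
        rw [← ofAdd_add]
        congr 1
        rw [Subgroup.coe_mul, UG.mul_c, hx]
        ring }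
  have hk : f.ker = (Q1 K).subgroupOf M := by
    ext g
    rw [MonoidHom.mem_ker, Subgroup.mem_subgroupOf, mem_Q1]
    constructor
    · intro h1
      exact ⟨hM g.2, ofAdd_eq_one.1 h1⟩
    · intro h1
      exact ofAdd_eq_one.2 h1.2
  rw [Subgroup.relIndex, ← hk, Subgroup.index_ker]
  refine le_trans ?_ (card_tr0_le h)
  refine Nat.card_le_card_of_injective
    (fun y : f.range => (⟨Multiplicative.toAdd (y : Multiplicative K), ?_⟩ : {c : K // c + star c = 0})) ?_
  · obtain ⟨g, hg⟩ := y.2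
    rw [← hg]
    show (g : UG K).c + star (g : UG K).c = 0
    have h1 := (g : UG K).hc
    have hx : (g : UG K).u2 = 0 := hM g.2
    rw [hx, zero_mul, add_zero] at h1
    exact h1
  · intro y z hyz
    have h1 := congrArg Subtype.val hyz
    exact Subtype.ext (Multiplicative.toAdd.injective h1)

/-- `|Q₁ : Q₁ ∩ E| ≥ q²` as soon as `E ∩ Q₁ ≤ Q₂` -/
theorem relIndex_Q1_ge (h : HypK K p n) [Finite (UG K)] {E : Subgroup (UG K)}
    (hE : ∀ e ∈ E, e ∈ Q1 K → e.r = 0) : (p ^ n) ^ 2 ≤ E.relIndex (Q1 K) := by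
  let f : Q1 K →* Multiplicative K :=
    { toFun := fun g => Multiplicative.ofAdd (g : UG K).r
      map_one' := rfl
      map_mul' := fun x y => rfl }
  have hs : Function.Surjective f := fun y =>
    ⟨⟨{ r := Multiplicative.toAdd y, u1 := 0, u2 := 0, a := 0, b := 0, c := 0, ha := by simp, hc := by simp },
      ⟨rfl, rfl⟩⟩, rfl⟩
  have hk : E.subgroupOf (Q1 K) ≤ f.ker := by
    intro g hg
    rw [Subgroup.mem_subgroupOf] at hg
    rw [MonoidHom.mem_ker]
    exact ofAdd_eq_one.2 (hE _ hg g.2)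
  have h1 : f.ker.index = (p ^ n) ^ 2 := by
    rw [Subgroup.index_ker, MonoidHom.range_eq_top.2 hs, ← h.card]
    exact Nat.card_congr (Equiv.trans Subgroup.topEquiv.toEquiv Multiplicative.toAdd)
  rw [← h1, Subgroup.relIndex]
  exact Nat.le_of_dvd (Nat.pos_of_ne_zero Subgroup.index_ne_zero_of_finite)
    (Subgroup.index_dvd_of_le hk)

theorem pow_mem_ZS (h : HypK K p n) {x : UG K} (hx : x ∈ Z2 K) : x ^ p ∈ ZS K := by
  have h1 : ∀ k : ℕ, (x ^ k).b = k * x.b := by
    intro k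
    induction k with
    | zero => simp
    | succ k ih =>
      rw [pow_succ, UG.mul_b, ih, ((Z2 K).pow_mem hx k).1, ((Z2 K).pow_mem hx k).2.1]
      push_cast
      ring
  have h2 := (Z2 K).pow_mem hx p
  have := h.char
  refine ⟨h2.1, h2.2.1, h2.2.2.1, ?_, h2.2.2.2⟩
  rw [h1, CharP.cast_eq_zero, zero_mul]

end

/-- the `p`-th powers of `Q1` are in `ZS` -/
theorem pow_mem_ZS_Q1 {K : Type u} [Field K] [StarRing K] {p n : ℕ} (hK : HypK K p n) {x : UG K} (hx : x ∈ Q1 K) :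
    x ^ p ∈ ZS K := by
  obtain ⟨h1, h2⟩ := hx
  have key : ∀ k : ℕ, (x ^ k).u2 = 0 ∧ (x ^ k).c = 0 ∧ (x ^ k).r = k * x.r ∧ (x ^ k).u1 = k * x.u1 ∧
      (x ^ k).b = k * x.b := by
    intro k
    induction k with
    | zero => simp
    | succ k ih =>
      obtain ⟨i1, i2, i3, i4, i5⟩ := ih
      rw [pow_succ]
      refine ⟨?_, ?_, ?_, ?_, ?_⟩
      · simp [i1, h1]
      · simp [i2, h1, h2]
      · rw [UG.mul_r, i3]; push_cast; ring
      · rw [UG.mul_u1, i4, h1]; push_cast; ring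
      · rw [UG.mul_b, i5, h1, h2]; push_cast; simp; ring
  have := hK.char
  obtain ⟨i1, i2, i3, i4, i5⟩ := key p
  rw [CharP.cast_eq_zero K p, zero_mul] at i3 i4 i5
  exact ⟨i3, i4, i1, i5, i2⟩

/-- (E3a) -/
theorem e3a (hCh : StChain.{u}) (hFF : StFF.{u}) : StE3a.{u} := by
  intro K _ _ p n hK E Γ hE hZ2 hZ hQ1 hQV
  have : Finite (UG K) := by
    have := hE.fin
    exact Finite.of_equiv _ Subgroup.topEquiv.toEquiv
  have hMi : Inv Γ (hull Γ (Z2 K)) := inv_hull _
  have hZM : Z2 K ≤ hull Γ (Z2 K) := le_hull hZ2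
  have hNM : ZS K ≤ hull Γ (Z2 K) := ZS_le_Z2.trans hZM
  have hcEM : Com E (hull Γ (Z2 K)) (ZS K) := com_hull hZ (fun e _ m hm => com_S_Z2 e hm)
  have hcAE : Com (Q1 K) E (hull Γ (Z2 K)) := fun x hx e he => hZM (com_Q1_QV hx (hQV he))
  have hcAN : ∀ x ∈ Q1 K, ∀ m ∈ ZS K, x * m = m * x := fun x _ m hm => ZS_comm hm x
  have hM : ¬ hull Γ (Z2 K) ≤ Q1 K := by
    intro hM
    exact hQ1 (hCh hE _ _ _ hZ hMi hMi hNM le_rfl (Q1 K) le_top hcAE
      (fun x hx m hm => hNM (com_Q1_Q1 hx (hM hm))) (fun x hx m hm => com_Q1_Q1 hx (hM hm)) hcAN)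
  obtain ⟨m, hm, hmQ⟩ := Set.not_subset.1 hM
  have hmE : m ∈ E := hull_le _ hm
  have hm2 : m.u2 = 0 := hQV hmE
  have hmc : m.c ≠ 0 := fun h0 => hmQ ⟨hm2, h0⟩
  have hr : ∀ e ∈ E, e ∈ Q1 K → e.r = 0 := by
    intro e he heQ
    have h1 := (hcEM e he m hm).2.2.2.1
    rw [comm_b_Q1_QV heQ hm2] at h1
    exact (mul_eq_zero.1 h1).resolve_right hmc
  have hge := relIndex_Q1_ge hK hr
  have hle := relIndex_Q1_le hK (M := hull Γ (Z2 K)) ((hull_le _).trans hQV)
  have hq := one_lt_q hK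
  have hcm : (Q1 K).relIndex (hull Γ (Z2 K)) ≠ 0 := Subgroup.index_ne_zero_of_finite
  have hle2 : (cmod (Q1 K) (hull Γ (Z2 K)) (ZS K)).relIndex (hull Γ (Z2 K)) ≤ p ^ n := by
    refine le_trans ?_ hle
    rw [← Subgroup.inf_relIndex_right (Q1 K)]
    refine Nat.le_of_dvd (Nat.pos_of_ne_zero Subgroup.index_ne_zero_of_finite) ?_
    refine Subgroup.relIndex_dvd_of_le_left _ ?_
    intro x hx
    exact Subgroup.subset_closure ⟨hx.2, fun a ha => com_Q1_Q1 ha hx.1⟩
  have hlt : p ^ n < (p ^ n) ^ 2 := by nlinarith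
  obtain ⟨-, hEq, -⟩ := hFF hE (ZS K) (hull Γ (Z2 K)) (Z2 K) (Q1 K) hZ hMi hNM hZM hcEM
    (pow_hull hZ (fun e _ m hm => com_S_Z2 e hm) (fun x hx => pow_mem_ZS hK hx))
    (sup_eq_left.2 hNM).symm (fun a _ m hm => com_S_Z2 a hm)
    (le_inf le_top (le_normalizer_of_com (fun x hx e he => hZ2 (com_Q1_QV hx (hQV he)))))
    hQ1 (fun a ha b hb => hZ.1 (com_Q1_Q1 ha hb)) (fun x hx => hZ.1 (pow_mem_ZS_Q1 hK hx)) hcAE hcAN (by omega)
  omega

end Cfsg.Agent.H104.PU
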