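import Cfsg.Agent.H756.PU.Stmts

/-!
# S5258: generic facts on hulls and coordinates of commutators in `UG K`
-/

set_option autoImplicit false

namespace Cfsg.Agent.H104.PU

open Cfsg Cfsg.FusionSystem Cfsg.Agent.H756.PU

universe u

section gen
variable {Ω : Type*} [Group Ω] {E : Subgroup Ω} {Γ : Subgroup (MulAut E)}

theorem hull_le (X : Subgroup Ω) : hull Γ X ≤ E := by
  rw [hull, Subgroup.closure_le]
  rintro y ⟨γ, -, e, -, rfl⟩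
  exact (γ e).2

theorem le_hull {X : Subgroup Ω} (hX : X ≤ E) : X ≤ hull Γ X := fun x hx =>
  Subgroup.subset_closure ⟨1, Γ.one_mem, ⟨x, hX hx⟩, hx, rfl⟩

theorem inv_hull (X : Subgroup Ω) : Inv Γ (hull Γ X) := by
  refine ⟨hull_le X, ?_⟩
  intro γ hγ
  have key : ∀ y ∈ hull Γ X, ∀ h : y ∈ E, ((γ ⟨y, h⟩ : E) : Ω) ∈ hull Γ X := by
    intro y hy
    unfold hull at hy
    induction hy using Subgroup.closure_induction with
    | mem z hz =>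
      obtain ⟨δ, hδ, e, he, rfl⟩ := hz
      intro h
      exact Subgroup.subset_closure ⟨γ * δ, Γ.mul_mem hγ hδ, e, he, rfl⟩
    | one =>
      intro h
      have : (⟨1, h⟩ : E) = 1 := rfl
      rw [this, map_one]
      exact Subgroup.one_mem _
    | mul a b ha hb iha ihb =>
      intro h
      have h1 : a ∈ E := hull_le X ha
      have h2 : b ∈ E := hull_le X hb
      have : (⟨a * b, h⟩ : E) = ⟨a, h1⟩ * ⟨b, h2⟩ := rfl
      rw [this, map_mul]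
      exact Subgroup.mul_mem _ (iha h1) (ihb h2)
    | inv a ha iha =>
      intro h
      have h1 : a ∈ E := hull_le X ha
      have : (⟨a⁻¹, h⟩ : E) = ⟨a, h1⟩⁻¹ := rfl
      rw [this, map_inv]
      exact Subgroup.inv_mem _ (iha h1)
  exact fun e he => key e he e.2

/-- elements centralized modulo a normal subgroup -/
theorem com_closure {A N : Subgroup Ω} [N.Normal] {T : Set Ω}
    (h : ∀ a ∈ A, ∀ m ∈ T, a * m * a⁻¹ * m⁻¹ ∈ N) : Com A (Subgroup.closure T) N := by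
  intro a ha m hm
  induction hm using Subgroup.closure_induction with
  | mem z hz => exact h a ha z hz
  | one => simp
  | mul x y hx hy ihx ihy =>
    have e : a * (x * y) * a⁻¹ * (x * y)⁻¹ = (a * x * a⁻¹ * x⁻¹) * (x * (a * y * a⁻¹ * y⁻¹) * x⁻¹) := by
      group
    rw [e]
    exact N.mul_mem ihx (Subgroup.Normal.conj_mem inferInstance _ ihy x)
  | inv x hx ihx =>
    have e : a * x⁻¹ * a⁻¹ * x⁻¹⁻¹ = x⁻¹ * (a * x * a⁻¹ * x⁻¹)⁻¹ * x⁻¹⁻¹ := by group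
    rw [e]
    exact Subgroup.Normal.conj_mem inferInstance _ (N.inv_mem ihx) x⁻¹

theorem com_hull {X N : Subgroup Ω} [N.Normal] (hN : Inv Γ N) (hX : Com E X N) :
    Com E (hull Γ X) N := by
  refine com_closure ?_
  rintro e he _ ⟨γ, hγ, x, hx, rfl⟩
  have h1 := hN.2 γ hγ (γ⁻¹ ⟨e, he⟩ * x * (γ⁻¹ ⟨e, he⟩)⁻¹ * x⁻¹)
    (hX _ (γ⁻¹ ⟨e, he⟩).2 _ hx)
  have h2 : γ (γ⁻¹ ⟨e, he⟩ * x * (γ⁻¹ ⟨e, he⟩)⁻¹ * x⁻¹) = ⟨e, he⟩ * γ x * (⟨e, he⟩)⁻¹ * (γ x)⁻¹ := by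
    simp only [map_mul, map_inv, MulAut.apply_inv_self]
  rw [h2] at h1
  exact h1

theorem pow_hull {X N : Subgroup Ω} [N.Normal] {p : ℕ} (hN : Inv Γ N) (hX : Com E X N)
    (hp : ∀ x ∈ X, x ^ p ∈ N) : ∀ m ∈ hull Γ X, m ^ p ∈ N := by
  have hc := com_hull hN hX
  intro m hm
  have key : m ∈ hull Γ X → m ^ p ∈ N := by
    intro _
    unfold hull at hm
    induction hm using Subgroup.closure_induction with
    | mem z hz =>
      obtain ⟨γ, hγ, x, hx, rfl⟩ := hz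
      have h1 := hN.2 γ hγ (x ^ p) (by simpa using hp _ hx)
      rw [map_pow] at h1
      simpa using h1
    | one => simp
    | mul x y hx hy ihx ihy =>
      have hx' : x ∈ hull Γ X := hx
      have hy' : y ∈ hull Γ X := hy
      have h1 := hc x (hull_le X hx') y hy'
      rw [← QuotientGroup.eq_one_iff] at h1 ⊢
      have h2 : Commute (QuotientGroup.mk x : Ω ⧸ N) (QuotientGroup.mk y) := by
        have h3 : (QuotientGroup.mk (x * y * x⁻¹ * y⁻¹) : Ω ⧸ N)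
            = QuotientGroup.mk x * QuotientGroup.mk y * (QuotientGroup.mk x)⁻¹ * (QuotientGroup.mk y)⁻¹ := rfl
        rw [h3, mul_inv_eq_one, mul_inv_eq_iff_eq_mul] at h1
        exact h1
      have h4 : (QuotientGroup.mk ((x * y) ^ p) : Ω ⧸ N) = (QuotientGroup.mk x * QuotientGroup.mk y) ^ p := rfl
      rw [h4, h2.mul_pow]
      have h5 := (QuotientGroup.eq_one_iff (N := N) (x ^ p)).2 (ihx hx')
      have h6 := (QuotientGroup.eq_one_iff (N := N) (y ^ p)).2 (ihy hy')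
      have h7 : (QuotientGroup.mk (x ^ p) : Ω ⧸ N) = (QuotientGroup.mk x) ^ p := rfl
      have h8 : (QuotientGroup.mk (y ^ p) : Ω ⧸ N) = (QuotientGroup.mk y) ^ p := rfl
      rw [← h7, ← h8, h5, h6, one_mul]
    | inv x hx ihx =>
      rw [inv_pow]
      exact N.inv_mem (ihx hx)
  exact key hm

end gen

section coords
variable {K : Type u} [Field K] [StarRing K]

theorem comm_mul (x y : UG K) : (x * y * x⁻¹ * y⁻¹) * (y * x) = x * y := by group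

@[simp] theorem comm_r (x y : UG K) : (x * y * x⁻¹ * y⁻¹).r = 0 := by
  simp

@[simp] theorem comm_u2 (x y : UG K) : (x * y * x⁻¹ * y⁻¹).u2 = 0 := by
  simp

theorem comm_u1 (x y : UG K) : (x * y * x⁻¹ * y⁻¹).u1 = x.r * y.u2 - y.r * x.u2 := by
  have h := congrArg UG.u1 (comm_mul x y)
  rw [UG.mul_u1 (x * y * x⁻¹ * y⁻¹), comm_r, UG.mul_u1 y x, UG.mul_u1 x y] at h
  linear_combination h

theorem comm_c (x y : UG K) : (x * y * x⁻¹ * y⁻¹).c = y.u2 * star x.u2 - x.u2 * star y.u2 := by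
  have h := congrArg UG.c (comm_mul x y)
  rw [UG.mul_c (x * y * x⁻¹ * y⁻¹), comm_u2, UG.mul_c y x, UG.mul_c x y] at h
  linear_combination h

theorem comm_b (x y : UG K) : (x * y * x⁻¹ * y⁻¹).b =
    x.r * y.c - y.r * x.c - x.u1 * star y.u2 + y.u1 * star x.u2
      + (x.r * y.u2 - y.r * x.u2) * star (y.u2 + x.u2) := by
  have h := congrArg UG.b (comm_mul x y)
  rw [UG.mul_b (x * y * x⁻¹ * y⁻¹), comm_r, comm_u1, UG.mul_b y x, UG.mul_b x y, UG.mul_u2 y x] at h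
  linear_combination h

theorem mem_ZS {g : UG K} : g ∈ ZS K ↔ g.r = 0 ∧ g.u1 = 0 ∧ g.u2 = 0 ∧ g.b = 0 ∧ g.c = 0 := Iff.rfl
theorem mem_Z2 {g : UG K} : g ∈ Z2 K ↔ g.r = 0 ∧ g.u1 = 0 ∧ g.u2 = 0 ∧ g.c = 0 := Iff.rfl
theorem mem_VV {g : UG K} : g ∈ VV K ↔ g.r = 0 ∧ g.u1 = 0 ∧ g.u2 = 0 := Iff.rfl
theorem mem_YY {g : UG K} : g ∈ YY K ↔ g.r = 0 ∧ g.u2 = 0 := Iff.rfl
theorem mem_Q2 {g : UG K} : g ∈ Q2 K ↔ g.r = 0 := Iff.rfl
theorem mem_Q1 {g : UG K} : g ∈ Q1 K ↔ g.u2 = 0 ∧ g.c = 0 := Iff.rfl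
theorem mem_QV {g : UG K} : g ∈ QV K ↔ g.u2 = 0 := Iff.rfl
theorem mem_Y1 {g : UG K} : g ∈ Y1 K ↔ (g.u2 = 0 ∧ g.c = 0) ∧ g.r = 0 := Iff.rfl

theorem ZS_comm {z : UG K} (hz : z ∈ ZS K) (x : UG K) : x * z = z * x := by
  obtain ⟨h1, h2, h3, h4, h5⟩ := hz
  ext
  · simp [h1]
  · simp [h1, h2, h3]
  · simp [h3]
  · simp only [UG.mul_a, UG.d, h1, h2, h3, h4, h5, star_zero]
    ring
  · simp only [UG.mul_b, h1, h2, h3, h4, h5, star_zero]
    ring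
  · simp [h3, h5]

instance ZS_normal : (ZS K).Normal := ⟨fun n hn g => by
  rw [ZS_comm hn g, mul_inv_cancel_right]; exact hn⟩

theorem ZS_le_Z2 : ZS K ≤ Z2 K := fun _ h => ⟨h.1, h.2.1, h.2.2.1, h.2.2.2.2⟩

/-- `[S, Z₂] ≤ Z` -/
theorem com_S_Z2 (x : UG K) {y : UG K} (hy : y ∈ Z2 K) : x * y * x⁻¹ * y⁻¹ ∈ ZS K := by
  obtain ⟨h1, h2, h3, h4⟩ := hy
  refine ⟨comm_r x y, ?_, comm_u2 x y, ?_, ?_⟩
  · rw [comm_u1, h1, h3]; ring
  · rw [comm_b, h1, h2, h3, h4, star_zero]; ring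
  · rw [comm_c, h3, star_zero]; ring

/-- `[Q₁, QV] ≤ Z₂` -/
theorem com_Q1_QV {x y : UG K} (hx : x ∈ Q1 K) (hy : y ∈ QV K) : x * y * x⁻¹ * y⁻¹ ∈ Z2 K := by
  obtain ⟨h1, h2⟩ := hx
  have h3 : y.u2 = 0 := hy
  refine ⟨comm_r x y, ?_, comm_u2 x y, ?_⟩
  · rw [comm_u1, h1, h3]; ring
  · rw [comm_c, h1, h3, star_zero]; ring

/-- the `b`-coordinate of `[x, y]`, `x ∈ Q₁`, `y ∈ QV` -/
theorem comm_b_Q1_QV {x y : UG K} (hx : x ∈ Q1 K) (hy : y ∈ QV K) :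
    (x * y * x⁻¹ * y⁻¹).b = x.r * y.c := by
  obtain ⟨h1, h2⟩ := hx
  have h3 : y.u2 = 0 := hy
  rw [comm_b, h1, h2, h3, star_zero]; ring

/-- `[Q₁, Q₁] ≤ Z` -/
theorem com_Q1_Q1 {x y : UG K} (hx : x ∈ Q1 K) (hy : y ∈ Q1 K) : x * y * x⁻¹ * y⁻¹ ∈ ZS K := by
  have h := com_Q1_QV hx (show y ∈ QV K from hy.1)
  refine ⟨h.1, h.2.1, h.2.2.1, ?_, h.2.2.2⟩
  rw [comm_b_Q1_QV hx hy.1, hy.2, mul_zero]

end coords

end Cfsg.Agent.H104.PU
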